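import Mathlib
import Cfsg.Prelude.Def_Solvable
import Cfsg.Agent.Lib.Helper47.Coprime
import Cfsg.Agent.Lib.Helper1.Fitting
import Cfsg.Agent.Lib.Lead.Cores
import Cfsg.Agent.S0044

/-!
helper61: small coprime-action tools.
* a `p'`-element centralizing `Ω₁` of an abelian `p`-group centralizes it;
* a subgroup all of whose `p'`-elements are trivial is a `p`-group;
* Hall--Higman 1.2.3 for solvable groups (light imports).
-/

set_option autoImplicit false

namespace Cfsg.Agent.Lib.Helper61.OmegaCoprime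

open Cfsg Subgroup
open scoped commutatorElement

variable {G : Type*} [Group G] {p : ℕ}

/-- A `p'`-element normalizing the abelian `p`-group `Z` and centralizing `Ω₁(Z)` centralizes `Z`. -/
theorem commute_of_centralizes_omega {Z : Subgroup G} (hZc : ∀ x ∈ Z, ∀ y ∈ Z, x * y = y * x)
    (hZp : IsPGroup p Z) {a : G} (haZ : ∀ x ∈ Z, a * x * a⁻¹ ∈ Z) (ha : (orderOf a).Coprime p)
    (h : ∀ x ∈ Z, x ^ p = 1 → Commute x a) : ∀ x ∈ Z, Commute x a := by
  have key : ∀ k : ℕ, ∀ x ∈ Z, x ^ p ^ k = 1 → Commute x a := by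
    intro k
    induction k with
    | zero =>
      intro x _ hx
      rw [pow_zero, pow_one] at hx
      rw [hx]; exact Commute.one_left a
    | succ k ih =>
      intro x hx hxk
      have h1 : Commute (x ^ p) a := by
        apply ih _ (Z.pow_mem hx p)
        rw [← pow_mul, ← pow_succ']; exact hxk
      have hy : (a * x * a⁻¹)⁻¹ ∈ Z := Z.inv_mem (haZ x hx)
      have hc : ⁅x, a⁆ = x * (a * x * a⁻¹)⁻¹ := by rw [commutatorElement_def]; group
      have hcZ : ⁅x, a⁆ ∈ Z := by rw [hc]; exact Z.mul_mem hx hy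
      have hcp : ⁅x, a⁆ ^ p = 1 := by
        rw [hc, (show Commute x (a * x * a⁻¹)⁻¹ from hZc x hx _ hy).mul_pow, inv_pow, conj_pow,
          ← h1.eq]
        group
      exact Cfsg.Agent.Lib.Helper47.commute_of_commutator_commute ha (h _ hcZ hcp)
        ⟨1, by rw [pow_one]; exact hcp⟩
  intro x hx
  obtain ⟨k, hk⟩ := hZp ⟨x, hx⟩
  exact key k x hx (by simpa using congrArg Subtype.val hk)

/-- A subgroup of a finite group whose `p'`-elements are trivial is a `p`-group. -/
theorem isPGroup_of_coprime_trivial [Finite G] (hp : p.Prime) {M : Subgroup G}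
    (h : ∀ x ∈ M, (orderOf x).Coprime p → x = 1) : IsPGroup p M := by
  rintro ⟨x, hx⟩
  obtain ⟨k, m, hm, hkm⟩ := Nat.exists_eq_pow_mul_and_not_dvd (orderOf_pos x).ne' p hp.ne_one
  refine ⟨k, Subtype.ext ?_⟩
  have hpk : p ^ k ≠ 0 := (pow_pos hp.pos k).ne'
  have h1 : orderOf (x ^ (p ^ k)) = m := by
    rw [orderOf_pow_of_dvd hpk (hkm ▸ dvd_mul_right _ _), hkm]
    exact Nat.mul_div_cancel_left _ (Nat.pos_of_ne_zero hpk)
  have h2 := h _ (M.pow_mem hx (p ^ k)) (by
    rw [h1]; exact ((Nat.Prime.coprime_iff_not_dvd hp).2 hm).symm)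
  simpa using h2

/-- in a solvable group with `O_{p'} = 1`, `O_p` contains its centralizer. -/
theorem centralizer_pCore_le [Finite G] [Fact p.Prime] [Group.IsSolvable G]
    (hcore : pPrimeCore p G = ⊥) : centralizer ((pCore p G) : Set G) ≤ pCore p G := by
  have hF : fittingSubgroup G = pCore p G := by
    rw [Cfsg.Agent.Lib.Helper1.fittingSubgroup_eq_iSup_pCore]
    apply le_antisymm
    · refine iSup_le fun q => ?_
      by_cases hq : (q : ℕ) = p
      · rw [hq]
      · have hqp : IsPGroup (q : ℕ) (pCore (q : ℕ) G) := Cfsg.Agent.Lib.Lead.pCore_isPGroup _ G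
        have : Fact (q : ℕ).Prime := ⟨q.2⟩
        obtain ⟨k, hk⟩ := IsPGroup.iff_card.mp hqp
        have hcop : (Nat.card (pCore (q : ℕ) G)).Coprime p := by
          rw [hk]
          exact Nat.Coprime.pow_left k ((Nat.coprime_primes q.2 (Fact.out : p.Prime)).2 hq)
        have := Cfsg.Agent.Lib.Lead.le_pPrimeCore (Cfsg.Agent.Lib.Lead.pCore_normal' (q : ℕ) G) hcop
        rw [hcore] at this
        exact this.trans bot_le
    · exact le_iSup (fun q : Nat.Primes => pCore (q : ℕ) G) ⟨p, Fact.out⟩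
  have := Cfsg.Agent.S0044.result (G := G)
  rwa [hF] at this

end Cfsg.Agent.Lib.Helper61.OmegaCoprime
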