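import Mathlib
import Cfsg.Prelude.Def_LocalEven
import Cfsg.Agent.Lib.Helper33.Sections
import Cfsg.Agent.Lib.Helper89.Sym4

/-!
helper61: a section isomorphic to the symmetric group of degree 4 from three elements
`b, y, w` (`b` inverts `y`, `y ^ 3 = 1`, `w` an involution commuting with `b`, and
the three `y`-conjugates of `w` have product one).
-/

set_option autoImplicit false

namespace Cfsg.Agent.Lib.Helper61.S4Config

open Cfsg

theorem involves_s4_of_injective {Q : Type*} [Group Q] (φ : Equiv.Perm (Fin 4) →* Q)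
    (hφ : Function.Injective φ) : Involves (Equiv.Perm (Fin 4)) Q :=
  Cfsg.Agent.Lib.Helper33.involves_subgroup φ.range
    (Cfsg.Agent.Lib.Helper33.involves_of_equiv (MonoidHom.ofInjective hφ).symm
      (Cfsg.Agent.Lib.Helper33.involves_self _))

theorem involves_s4 {Y : Type*} [Group Y] (b y w : Y) (hby : b * y * b⁻¹ = y⁻¹) (hy3 : y ^ 3 = 1)
    (hw2 : w * w = 1) (hbw : b * w = w * b) (hprod : w * (y * w * y⁻¹) * (y⁻¹ * w * y) = 1)
    (hw : w ≠ 1) : Involves (Equiv.Perm (Fin 4)) Y := by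
  -- basic rewriting facts
  have hwi : w⁻¹ = w := inv_eq_of_mul_eq_one_left hw2
  have hy3' : y * y * y = 1 := by rw [← hy3, pow_succ, pow_succ, pow_one]
  have hyy : y * y = y⁻¹ := eq_inv_of_mul_eq_one_left hy3'
  have hyi2 : y⁻¹ * y⁻¹ = y := by rw [← mul_inv_rev, hyy, inv_inv]
  have hb1 : b * y = y⁻¹ * b := by rw [← hby]; group
  have hb2 : b * y⁻¹ = y * b := by
    calc b * y⁻¹ = y * (y⁻¹ * b) * y⁻¹ := by group
      _ = y * (b * y) * y⁻¹ := by rw [hb1]
      _ = y * b := by group
  set r : Y := b * b with hr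
  have hrb : r * b = b * r := by rw [hr]; group
  have hry : r * y = y * r := by
    rw [hr, mul_assoc, hb1, ← mul_assoc, hb2, mul_assoc]
  have hryi : r * y⁻¹ = y⁻¹ * r := by
    rw [hr, mul_assoc, hb2, ← mul_assoc, hb1, mul_assoc]
  have hrw : r * w = w * r := by
    rw [hr, mul_assoc, hbw, ← mul_assoc, hbw, mul_assoc]
  -- `(w y)^3 = 1`
  have h1 : w * y * w * y * w * y = 1 := by
    have : w * (y * w * y⁻¹) * (y⁻¹ * w * y) = w * y * w * (y⁻¹ * y⁻¹) * w * y := by group
    rw [this, hyi2] at hprod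
    exact hprod
  have hwy : y * w * y = w * y⁻¹ * w := by
    calc y * w * y = w⁻¹ * (w * y * w * y * w * y) * y⁻¹ * w⁻¹ := by group
      _ = w * y⁻¹ * w := by rw [h1, hwi]; group
  -- the ambient group: the centralizer of `r`
  let K : Subgroup Y := Subgroup.centralizer {r}
  have hmemK : ∀ g : Y, r * g = g * r → g ∈ K := by
    intro g hg
    rw [Subgroup.mem_centralizer_singleton_iff]
    exact hg.symm
  have hbK : b ∈ K := hmemK b hrb
  have hyK : y ∈ K := hmemK y hry
  have hwK : w ∈ K := hmemK w hrw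
  have hrK : r ∈ K := K.mul_mem hbK hbK
  let R : Subgroup K := Subgroup.zpowers ⟨r, hrK⟩
  have hRn : R.Normal := by
    constructor
    intro n hn g
    obtain ⟨m, rfl⟩ := Subgroup.mem_zpowers_iff.mp hn
    have hc : Commute g (⟨r, hrK⟩ : K) := by
      apply Subtype.ext
      have := g.2
      rw [Subgroup.mem_centralizer_singleton_iff] at this
      exact this
    have h2 : g * (⟨r, hrK⟩ : K) ^ m * g⁻¹ = (⟨r, hrK⟩ : K) ^ m := by
      rw [(hc.zpow_right m).eq]; group
    rw [h2]
    exact Subgroup.zpow_mem_zpowers _ m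
  let π : K →* K ⧸ R := QuotientGroup.mk' R
  have hπr : π ⟨r, hrK⟩ = 1 := (QuotientGroup.eq_one_iff _).mpr (Subgroup.mem_zpowers _)
  let X : K := ⟨b, hbK⟩
  let Yy : K := ⟨y⁻¹ * b, K.mul_mem (K.inv_mem hyK) hbK⟩
  let Z : K := ⟨b * w, K.mul_mem hbK hwK⟩
  have hx : π X * π X = 1 := by
    rw [← map_mul, ← hπr]; rfl
  have hy : π Yy * π Yy = 1 := by
    rw [← map_mul, ← hπr]
    congr 1
    apply Subtype.ext
    show y⁻¹ * b * (y⁻¹ * b) = r
    calc y⁻¹ * b * (y⁻¹ * b) = y⁻¹ * (b * y⁻¹) * b := by group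
      _ = r := by rw [hb2, hr]; group
  have hz : π Z * π Z = 1 := by
    rw [← map_mul, ← hπr]
    congr 1
    apply Subtype.ext
    show b * w * (b * w) = r
    calc b * w * (b * w) = b * (w * b) * w := by group
      _ = b * b * (w * w) := by rw [← hbw]; group
      _ = r := by rw [hw2, mul_one]
  have hxz : π Z * π X = π X * π Z := by
    rw [← map_mul, ← map_mul]
    congr 1
    apply Subtype.ext
    show b * w * b = b * (b * w)
    rw [mul_assoc, ← hbw]
  have hxy : π Yy * π X * π Yy = π X * π Yy * π X := by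
    rw [← map_mul, ← map_mul, ← map_mul, ← map_mul]
    congr 1
    apply Subtype.ext
    show y⁻¹ * b * b * (y⁻¹ * b) = b * (y⁻¹ * b) * b
    calc y⁻¹ * b * b * (y⁻¹ * b) = y⁻¹ * (r * y⁻¹) * b := by rw [hr]; group
      _ = (y⁻¹ * y⁻¹) * r * b := by rw [hryi]; group
      _ = y * b * b * b := by rw [hyi2, hr]; group
      _ = (b * y⁻¹) * b * b := by rw [hb2]
      _ = b * (y⁻¹ * b) * b := by group
  have hyz : π Z * π Yy * π Z = π Yy * π Z * π Yy := by
    rw [← map_mul, ← map_mul, ← map_mul, ← map_mul]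
    congr 1
    apply Subtype.ext
    show b * w * (y⁻¹ * b) * (b * w) = y⁻¹ * b * (b * w) * (y⁻¹ * b)
    calc b * w * (y⁻¹ * b) * (b * w) = b * (w * y⁻¹) * (r * w) := by rw [hr]; group
      _ = b * (w * y⁻¹ * w) * r := by rw [hrw]; group
      _ = b * (y * w * y) * r := by rw [hwy]
      _ = (b * y) * w * y * r := by group
      _ = y⁻¹ * (b * w) * y * r := by rw [hb1]; group
      _ = y⁻¹ * w * (b * y) * r := by rw [hbw]; group
      _ = y⁻¹ * w * y⁻¹ * (b * r) := by rw [hb1]; group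
      _ = y⁻¹ * w * (y⁻¹ * r) * b := by rw [← hrb]; group
      _ = y⁻¹ * (w * r) * y⁻¹ * b := by rw [← hryi]; group
      _ = y⁻¹ * r * w * y⁻¹ * b := by rw [← hrw]; group
      _ = y⁻¹ * b * (b * w) * (y⁻¹ * b) := by rw [hr]; group
  have hne : π X ≠ π Z := by
    intro h
    have h2 : X⁻¹ * Z ∈ R := QuotientGroup.eq.mp h
    obtain ⟨n, hn⟩ := Subgroup.mem_zpowers_iff.mp h2
    have h3 : r ^ n = w := by
      have := congrArg Subtype.val hn
      simp only [Subgroup.coe_zpow, Subgroup.coe_mul, Subgroup.coe_inv] at this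
      rw [this]
      show b⁻¹ * (b * w) = w
      group
    have h4 : Commute w y := by
      rw [← h3]
      exact (show Commute r y from hry).zpow_left n
    apply hw
    have h5 : y * w * y⁻¹ = w := by rw [← h4.eq]; group
    have h6 : y⁻¹ * w * y = w := by rw [mul_assoc, h4.eq]; group
    rw [h5, h6, hw2, one_mul] at hprod
    exact hprod
  have hinj := Cfsg.Agent.Lib.Helper89.sym4Hom_injective hx hy hz hxz hxy hyz hne
  exact Cfsg.Agent.Lib.Helper33.involves_subgroup K
    (Cfsg.Agent.Lib.Helper33.involves_quotient R (involves_s4_of_injective _ hinj))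

end Cfsg.Agent.Lib.Helper61.S4Config
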