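import Mathlib
import Cfsg.Agent.Lib.Helper61.S4Config
import Cfsg.Agent.Lib.Helper47.Comm
import Cfsg.Agent.Lib.Helper1.Coprime

/-!
helper61: a "transvection" `b` on a normal elementary abelian 2-subgroup `V`, together with a
conjugate `c = k b k⁻¹` such that `c b` has a nontrivial odd part on `V`, produces a section
isomorphic to the symmetric group of degree 4.
-/

set_option autoImplicit false

namespace Cfsg.Agent.Lib.Helper61.S4Transv

open Cfsg Subgroup
open scoped Pointwise commutatorElement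

variable {Y : Type*} [Group Y]

theorem commute_of_sq {a x : Y} (ha : (orderOf a).Coprime 2) (h : Commute (a * a) x) :
    Commute a x := by
  obtain ⟨m, hm⟩ := exists_pow_eq_self_of_coprime (x := a) (n := 2) ha.symm
  rw [← hm, pow_two]
  exact h.pow_left m

theorem commute_of_conj_eq {a x : Y} (h : a * x * a⁻¹ = x) : Commute a x :=
  mul_inv_eq_iff_eq_mul.mp h

theorem involves_s4_of_transvection [Finite Y] (U V : Subgroup Y) [hUn : U.Normal] [hVn : V.Normal]
    (hU : IsPGroup 2 U) (hVc : ∀ x ∈ V, ∀ y ∈ V, x * y = y * x) (hV2 : ∀ x ∈ V, x * x = 1)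
    (hUV : U ≤ centralizer (V : Set Y))
    (b k β yh : Y) (hb2 : b * b ∈ U) (hβ : β ∈ V)
    (htr : ∀ v ∈ V, b * v * b⁻¹ = v ∨ b * v * b⁻¹ = v * β)
    (hodd : (orderOf yh).Coprime 2)
    (hyg : yh⁻¹ * (k * b * k⁻¹ * b) ∈ U)
    (hyV : yh ∉ centralizer (V : Set Y))
    (hfaith : yh ^ 3 ∈ centralizer (V : Set Y) → yh ^ 3 ∈ U) :
    Involves (Equiv.Perm (Fin 4)) Y := by
  have : Fact (Nat.Prime 2) := ⟨Nat.prime_two⟩
  set c := k * b * k⁻¹ with hc
  set γ := k * β * k⁻¹ with hγdef
  have hγ : γ ∈ V := hVn.conj_mem β hβ k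
  have htc : ∀ v ∈ V, c * v * c⁻¹ = v ∨ c * v * c⁻¹ = v * γ := by
    intro v hv
    have hv' : k⁻¹ * v * k ∈ V := by simpa using hVn.conj_mem v hv k⁻¹
    rcases htr _ hv' with h | h
    · left
      calc c * v * c⁻¹ = k * (b * (k⁻¹ * v * k) * b⁻¹) * k⁻¹ := by rw [hc]; group
        _ = v := by rw [h]; group
    · right
      calc c * v * c⁻¹ = k * (b * (k⁻¹ * v * k) * b⁻¹) * k⁻¹ := by rw [hc]; group
        _ = v * γ := by rw [h, hγdef]; group
  have hact : ∀ v ∈ V, yh * v * yh⁻¹ = c * (b * v * b⁻¹) * c⁻¹ := by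
    intro v hv
    have huv : (yh⁻¹ * (c * b)) * v = v * (yh⁻¹ * (c * b)) :=
      ((mem_centralizer_iff.mp (hUV hyg)) v hv).symm
    calc yh * v * yh⁻¹ = yh * (v * (yh⁻¹ * (c * b))) * (yh⁻¹ * (c * b))⁻¹ * yh⁻¹ := by group
      _ = yh * ((yh⁻¹ * (c * b)) * v) * (yh⁻¹ * (c * b))⁻¹ * yh⁻¹ := by rw [huv]
      _ = c * (b * v * b⁻¹) * c⁻¹ := by group
  have hββ : β * β = 1 := hV2 β hβ
  have hγγ : γ * γ = 1 := hV2 γ hγ
  have hβγ : β * γ = γ * β := hVc β hβ γ hγ
  have hbβ : b * β * b⁻¹ = β := by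
    rcases htr β hβ with h | h
    · exact h
    · rw [hββ, conj_eq_one_iff] at h
      rw [h]; group
  have hcγ : c * γ * c⁻¹ = γ := by
    rcases htc γ hγ with h | h
    · exact h
    · rw [hγγ, conj_eq_one_iff] at h
      rw [h]; group
  set W : Subgroup Y := closure {β, γ} with hW
  have hβW : β ∈ W := subset_closure (by simp)
  have hγW : γ ∈ W := subset_closure (by simp)
  have hWV : W ≤ V := by
    rw [hW, closure_le]
    rintro x (rfl | rfl)
    · exact hβ
    · exact hγ
  have hVp : IsPGroup 2 V := by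
    rintro ⟨x, hx⟩
    refine ⟨1, Subtype.ext ?_⟩
    simp only [pow_one, Subgroup.coe_one, pow_two]
    exact hV2 x hx
  have hWp : IsPGroup 2 W := hVp.to_le hWV
  have hbW : ∀ v ∈ V, v⁻¹ * (b * v * b⁻¹) ∈ W := by
    intro v hv
    rcases htr v hv with h | h
    · rw [h]; simp
    · rw [h]; simpa using hβW
  have hcW : ∀ v ∈ V, v⁻¹ * (c * v * c⁻¹) ∈ W := by
    intro v hv
    rcases htc v hv with h | h
    · rw [h]; simp
    · rw [h]; simpa using hγW
  have hyW : ∀ v ∈ V, v⁻¹ * (yh * v * yh⁻¹) ∈ W := by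
    intro v hv
    rw [hact v hv]
    have h1 := hbW v hv
    have h2 := hcW _ (hVn.conj_mem v hv b)
    have := W.mul_mem h1 h2
    convert this using 1
    group
  have hcomm : ∀ v ∈ V, ⁅v, yh⁆ ∈ W := by
    intro v hv
    have h1 := W.inv_mem (hyW v hv)
    have h2 : (yh * v * yh⁻¹) * v⁻¹ = v⁻¹ * (yh * v * yh⁻¹) :=
      hVc _ (hVn.conj_mem v hv yh) _ (V.inv_mem hv)
    rw [← h2] at h1
    convert h1 using 1
    rw [commutatorElement_def]; group
  have hnorm : yh ∈ normalizer (W : Set Y) := by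
    apply Subgroup.mem_normalizer_fintype
    intro w hw
    have := W.mul_mem hw (hyW w (hWV hw))
    show yh * w * yh⁻¹ ∈ W
    convert this using 1
    group
  have hpow : ∀ a ∈ zpowers yh, ∀ v ∈ V, ⁅v, a⁆ ∈ W := by
    intro a ha v hv
    have h1 : ⁅V, closure {yh}⁆ ≤ W := by
      apply Cfsg.Agent.Lib.Helper47.commutator_closure_le
      rintro s rfl
      exact ⟨hnorm, hcomm⟩
    rw [← zpowers_eq_closure] at h1
    exact h1 (commutator_mem_commutator hv ha)
  have key : ∀ a ∈ zpowers yh, Commute a β → Commute a γ → a ∈ centralizer (V : Set Y) := by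
    intro a ha h1 h2
    have hao : (orderOf a).Coprime 2 :=
      Nat.Coprime.coprime_dvd_left (orderOf_dvd_of_mem_zpowers ha) hodd
    have h3 : ∀ y ∈ W, Commute y a := by
      have : W ≤ centralizer {a} := by
        rw [hW, closure_le]
        rintro x (rfl | rfl)
        · exact mem_centralizer_singleton_iff.mpr h1.symm.eq
        · exact mem_centralizer_singleton_iff.mpr h2.symm.eq
      intro y hy
      exact (mem_centralizer_singleton_iff.mp (this hy))
    have h4 := Cfsg.Agent.Lib.Helper47.centralizes_of_step hao hWp (hpow a ha) h3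
    rw [mem_centralizer_iff]
    intro v hv
    exact (h4 v hv).eq
  have hyself : yh ∈ zpowers yh := mem_zpowers yh
  have Eβ0 : yh * β * yh⁻¹ = c * β * c⁻¹ := by rw [hact β hβ, hbβ]
  have hconjmul : ∀ a u v : Y, a * (u * v) * a⁻¹ = (a * u * a⁻¹) * (a * v * a⁻¹) := by
    intro a u v; group
  -- the good case
  have good : yh * β * yh⁻¹ = β * γ ∧ yh * γ * yh⁻¹ = β := by
    rcases htc β hβ with h1 | h1 <;> rcases htr γ hγ with h2 | h2
    · exfalso
      apply hyV
      apply key yh hyself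
      · exact commute_of_conj_eq (Eβ0.trans h1)
      · apply commute_of_conj_eq
        rw [hact γ hγ, h2, hcγ]
    · exfalso
      have e1 : yh * β * yh⁻¹ = β := Eβ0.trans h1
      have e2 : yh * γ * yh⁻¹ = γ * β := by
        rw [hact γ hγ, h2, hconjmul, hcγ, h1]
      apply hyV
      apply key yh hyself
      · exact commute_of_conj_eq e1
      · apply commute_of_sq hodd
        apply commute_of_conj_eq
        calc yh * yh * γ * (yh * yh)⁻¹ = yh * (yh * γ * yh⁻¹) * yh⁻¹ := by group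
          _ = γ * (β * β) := by rw [e2, hconjmul, e2, e1]; group
          _ = γ := by rw [hββ, mul_one]
    · exfalso
      have e1 : yh * β * yh⁻¹ = β * γ := Eβ0.trans h1
      have e2 : yh * γ * yh⁻¹ = γ := by
        rw [hact γ hγ, h2, hcγ]
      apply hyV
      apply key yh hyself
      · apply commute_of_sq hodd
        apply commute_of_conj_eq
        calc yh * yh * β * (yh * yh)⁻¹ = yh * (yh * β * yh⁻¹) * yh⁻¹ := by group
          _ = β * (γ * γ) := by rw [e1, hconjmul, e2, e1]; group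
          _ = β := by rw [hγγ, mul_one]
      · exact commute_of_conj_eq e2
    · refine ⟨Eβ0.trans h1, ?_⟩
      rw [hact γ hγ, h2, hconjmul, hcγ, h1, ← mul_assoc, ← hβγ, mul_assoc, hγγ, mul_one]
  obtain ⟨Eβ, Eγ⟩ := good
  have Eβγ : yh * (β * γ) * yh⁻¹ = γ := by
    rw [hconjmul, Eβ, Eγ, hβγ, mul_assoc, hββ, mul_one]
  have c1 : yh * β = β * γ * yh := mul_inv_eq_iff_eq_mul.mp Eβ
  have c2 : yh * γ = β * yh := mul_inv_eq_iff_eq_mul.mp Eγ
  have c3 : yh * (β * γ) = γ * yh := mul_inv_eq_iff_eq_mul.mp Eβγ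
  have hy3mem : yh ^ 3 ∈ zpowers yh := Subgroup.pow_mem _ hyself 3
  have hy3e : yh ^ 3 = yh * yh * yh := by rw [pow_succ, pow_succ, pow_one]
  have hy3 : yh ^ 3 = 1 := by
    have h1 : yh ^ 3 ∈ centralizer (V : Set Y) := by
      apply key _ hy3mem
      · show yh ^ 3 * β = β * yh ^ 3
        rw [hy3e]
        calc yh * yh * yh * β = yh * yh * (yh * β) := by group
          _ = yh * (yh * (β * γ)) * yh := by rw [c1]; group
          _ = (yh * γ) * yh * yh := by rw [c3]; group
          _ = β * (yh * yh * yh) := by rw [c2]; group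
      · show yh ^ 3 * γ = γ * yh ^ 3
        rw [hy3e]
        calc yh * yh * yh * γ = yh * yh * (yh * γ) := by group
          _ = yh * (yh * β) * yh := by rw [c2]; group
          _ = (yh * (β * γ)) * yh * yh := by rw [c1]; group
          _ = γ * (yh * yh * yh) := by rw [c3]; group
    exact Cfsg.Agent.Lib.Helper47.eq_one_of_mem_pGroup_of_coprime hU (hfaith h1)
      (Nat.Coprime.coprime_dvd_left (orderOf_dvd_of_mem_zpowers hy3mem) hodd)
  -- `b` inverts `yh` modulo `U`
  have hinvU : b * yh * b⁻¹ * yh ∈ U := by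
    let π := QuotientGroup.mk' U
    have e1 : π yh = π c * π b := by
      rw [← map_mul]
      exact QuotientGroup.eq.mpr hyg
    have e2 : π b * π b = 1 := by
      rw [← map_mul]; exact (QuotientGroup.eq_one_iff _).mpr hb2
    have e3 : π c * π c = 1 := by
      rw [← map_mul]
      apply (QuotientGroup.eq_one_iff _).mpr
      have := hUn.conj_mem _ hb2 k
      convert this using 1
      rw [hc]; group
    apply (QuotientGroup.eq_one_iff _).mp
    show π (b * yh * b⁻¹ * yh) = 1
    simp only [map_mul, map_inv, e1]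
    calc π b * (π c * π b) * (π b)⁻¹ * (π c * π b) = π b * (π c * π c) * π b := by group
      _ = 1 := by rw [e3, mul_one, e2]
  set A3 : Subgroup Y := zpowers yh with hA3
  have hcop : (Nat.card A3).Coprime (Nat.card U) := by
    rw [hA3, Nat.card_zpowers]
    obtain ⟨n, hn⟩ := IsPGroup.iff_card.mp hU
    rw [hn]
    exact Nat.Coprime.pow_right n hodd
  have hB : MulAut.conj b • A3 ≤ A3 ⊔ U := by
    intro x hx
    rw [Cfsg.Agent.Lib.Helper1.mem_conj_smul_iff] at hx
    obtain ⟨n, hn⟩ := mem_zpowers_iff.mp hx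
    have h1 : x = (b * yh * b⁻¹) ^ n := by
      rw [conj_zpow, hn]; group
    rw [h1]
    apply Subgroup.zpow_mem
    have h2 : b * yh * b⁻¹ = (b * yh * b⁻¹ * yh) * yh⁻¹ := by group
    rw [h2]
    exact mul_mem (mem_sup_right hinvU) (mem_sup_left (inv_mem hyself))
  obtain ⟨u, hu, hu2⟩ := Cfsg.Agent.Lib.Helper1.sz_conj_rel U A3 (MulAut.conj b • A3)
    (le_normalizer_of_normal) hcop (Or.inl inferInstance) hB
    (Cfsg.Agent.Lib.Helper1.card_conj_smul b A3)
  have ht1 : u⁻¹ * (b * yh * b⁻¹) * u ∈ A3 := by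
    rw [← Cfsg.Agent.Lib.Helper1.mem_conj_smul_iff, hu2]
    exact Cfsg.Agent.Lib.Helper1.conj_mem_conj_smul b hyself
  have ht : u⁻¹ * (b * yh * b⁻¹) * u * yh = 1 := by
    apply Cfsg.Agent.Lib.Helper47.eq_one_of_mem_pGroup_of_coprime hU
    · have h1 : yh⁻¹ * u * yh ∈ U := by simpa using hUn.conj_mem u hu yh⁻¹
      have := U.mul_mem (U.mul_mem (U.inv_mem hu) hinvU) h1
      convert this using 1
      group
    · exact Nat.Coprime.coprime_dvd_left
        (orderOf_dvd_of_mem_zpowers (A3.mul_mem ht1 hyself)) hodd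
  have huβ : u⁻¹ * β = β * u⁻¹ := ((mem_centralizer_iff.mp (hUV (U.inv_mem hu))) β hβ).symm
  have hbβ' : b * β = β * b := mul_inv_eq_iff_eq_mul.mp hbβ
  apply Cfsg.Agent.Lib.Helper61.S4Config.involves_s4 (u⁻¹ * b) yh β
  · apply eq_inv_of_mul_eq_one_left
    rw [← ht]; group
  · exact hy3
  · exact hββ
  · calc u⁻¹ * b * β = u⁻¹ * (b * β) := by group
      _ = (u⁻¹ * β) * b := by rw [hbβ']; group
      _ = β * (u⁻¹ * b) := by rw [huβ]; group
  · have h1 : yh⁻¹ * β * yh = γ := by rw [← Eγ]; group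
    rw [Eβ, h1]
    calc β * (β * γ) * γ = (β * β) * (γ * γ) := by group
      _ = 1 := by rw [hββ, hγγ, one_mul]
  · intro h1
    apply hyV
    have h2 : γ = 1 := by
      rw [h1] at Eβ
      simpa using Eβ.symm
    apply key yh hyself
    · rw [h1]; exact Commute.one_right _
    · rw [h2]; exact Commute.one_right _

end Cfsg.Agent.Lib.Helper61.S4Transv
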