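import Mathlib
import Cfsg.Agent.Lib.Helper61.S4Transv
import Cfsg.Agent.Lib.Helper10.Replacement
import Cfsg.Agent.Lib.Helper10.PAction
import Cfsg.Agent.Lib.Helper10.Thompson
import Cfsg.Agent.Lib.Helper47.AxB
import Cfsg.Agent.Lib.Helper96.ClassPow
import Cfsg.Agent.Lib.Lead.Cores
import Cfsg.Agent.S1324
import Cfsg.Agent.S0044

/-!
helper61: in a finite solvable group, an offender on a normal elementary abelian 2-subgroup `V`
(acting faithfully modulo `O_2`) forces a section isomorphic to the symmetric group of degree 4.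
-/

set_option autoImplicit false

namespace Cfsg.Agent.Lib.Helper61.S4Offender

open Cfsg Subgroup
open Cfsg.Agent.Lib.Helper10 (mm)
open scoped Pointwise commutatorElement

/-- Timmesfeld replacement, in the form needed here (`V` abelian, `A` acting as a `p`-group). -/
theorem quad_repl {G : Type*} [Group G] [Finite G] {p : ℕ} [Fact p.Prime] {V A : Subgroup G}
    (hVc : ∀ x ∈ V, ∀ y ∈ V, x * y = y * x) (hVp : IsPGroup p V)
    (hAV : A ≤ normalizer (V : Set G)) (hab : ⁅A, A⁆ ≤ centralizer (V : Set G))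
    (hpow : ∀ a ∈ A, ∃ k : ℕ, a ^ p ^ k ∈ centralizer (V : Set G))
    (hmax : ∀ B : Subgroup G, B ≤ A → mm V B ≤ mm V A) (hne : ¬ A ≤ centralizer (V : Set G)) :
    ∃ B : Subgroup G, B ≤ A ∧ A ⊓ centralizer (V : Set G) ≤ B ∧ mm V B = mm V A ∧
      ⁅V, B⁆ ≤ centralizer (B : Set G) ∧ ¬ B ≤ centralizer (V : Set G) := by
  obtain ⟨h1, h2⟩ := Cfsg.Agent.Lib.Helper10.replacement hVc hAV hab hmax V le_rfl
  set B := A ⊓ centralizer ((⁅V, A⁆ : Subgroup G) : Set G) with hB
  have hVA : ⁅V, A⁆ ≤ V := (le_normalizer_iff_commutator_le_left).mp hAV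
  refine ⟨B, inf_le_left, ?_, h1, ?_, ?_⟩
  · exact inf_le_inf_left A (centralizer_le (by exact_mod_cast hVA))
  · refine (commutator_mono le_rfl (inf_le_left : B ≤ A)).trans ?_
    rw [le_centralizer_iff]
    exact inf_le_right
  · intro hbot
    apply hne
    rw [le_centralizer_iff] at hbot
    have hVeq : V = ⁅V, A⁆ ⊔ (V ⊓ centralizer (A : Set G)) := by
      rw [← h2]; exact (inf_eq_left.mpr hbot).symm
    have hW : ⁅V, A⁆ = ⊥ := by
      apply Cfsg.Agent.Lib.Helper10.eq_bot_of_le_commutator_pAction hVp hAV hpow hVA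
      have hn : ⁅V, A⁆ ≤ normalizer ((V ⊓ centralizer (A : Set G) : Subgroup G) : Set G) := by
        refine le_trans ?_ (centralizer_le_normalizer _)
        intro x hx
        rw [mem_centralizer_iff]
        intro y hy
        exact hVc y hy.1 x (hVA hx)
      rw [commutator_le]
      intro v hv a ha
      rw [hVeq, ← SetLike.mem_coe, coe_mul_of_left_le_normalizer_right _ _ hn] at hv
      obtain ⟨w, hw, c, hc, rfl⟩ := hv
      have hca : a * c⁻¹ = c⁻¹ * a := by
        have h3 : c⁻¹ ∈ centralizer (A : Set G) := inv_mem hc.2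
        exact (mem_centralizer_iff.mp h3) a ha
      have e : ⁅w * c, a⁆ = ⁅w, a⁆ := by
        simp only [commutatorElement_def, mul_inv_rev]
        calc w * c * a * (c⁻¹ * w⁻¹) * a⁻¹ = w * c * (a * c⁻¹) * w⁻¹ * a⁻¹ := by group
          _ = w * c * (c⁻¹ * a) * w⁻¹ * a⁻¹ := by rw [hca]
          _ = w * a * w⁻¹ * a⁻¹ := by group
      rw [e]
      exact commutator_mem_commutator hw ha
    rw [le_centralizer_iff, ← commutator_eq_bot_iff_le_centralizer]
    exact hW

/-- a group element of order dividing 2 and of odd order is trivial -/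
theorem eq_one_of_sq_of_mem {H : Type*} [Group H] {F : Subgroup H} [Finite F]
    (hF : (Nat.card F).Coprime 2) {x : H} (hx : x ∈ F) (h2 : x * x = 1) : x = 1 := by
  have h1 : orderOf x ∣ Nat.card F := by
    have := orderOf_dvd_natCard (⟨x, hx⟩ : F)
    rwa [Subgroup.orderOf_mk] at this
  have h3 : orderOf x ∣ 2 := orderOf_dvd_of_pow_eq_one (by rw [pow_two, h2])
  exact orderOf_eq_one_iff.mp (Nat.eq_one_of_dvd_coprimes hF h1 h3)

/-- A minimal offender has order 2 modulo `O_2`. -/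
theorem card_min_offender {Y : Type*} [Group Y] [Finite Y] [Group.IsSolvable Y]
    (V N D : Subgroup Y) [hVn : V.Normal] [hNn : N.Normal]
    (hV2 : ∀ x ∈ V, x * x = 1)
    (hUV : pCore 2 Y ≤ centralizer (V : Set Y)) (hUN : pCore 2 Y ≤ N)
    (hN : N ⊓ centralizer (V : Set Y) ≤ pCore 2 Y)
    (hUD : pCore 2 Y ≤ D) (hDN : D ≤ N) (hDU : D ≠ pCore 2 Y)
    (hDel : ∀ x ∈ D, x * x ∈ pCore 2 Y)
    (hoff : Nat.card V * Nat.card (pCore 2 Y) ≤ mm V D)
    (hmin : ∀ E : Subgroup Y, pCore 2 Y ≤ E → E ≤ D → E ≠ D → E ≠ pCore 2 Y →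
      mm V E < Nat.card V * Nat.card (pCore 2 Y)) :
    Nat.card D = Nat.card (pCore 2 Y) * 2 := by
  classical
  have : Fact (Nat.Prime 2) := ⟨Nat.prime_two⟩
  set U := pCore 2 Y with hUdef
  have hUn : U.Normal := inferInstance
  have hUp : IsPGroup 2 U := Cfsg.Agent.Lib.Lead.pCore_isPGroup 2 Y
  let π : Y →* Y ⧸ U := QuotientGroup.mk' U
  have hπs : Function.Surjective π := QuotientGroup.mk'_surjective U
  have hker : π.ker = U := QuotientGroup.ker_mk' U
  have hπ1 : ∀ g : Y, π g = 1 ↔ g ∈ U := fun g => QuotientGroup.eq_one_iff g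
  set F := fittingSubgroup (Y ⧸ U) with hF
  have hcore : pCore 2 (Y ⧸ U) = ⊥ := Cfsg.Agent.Lib.Lead.pCore_quotient_pCore 2 Y
  have hFodd : (Nat.card F).Coprime 2 :=
    Cfsg.Agent.Lib.Helper96.card_fittingSubgroup_coprime Nat.prime_two _ hcore
  have hFn : F.Normal := Cfsg.Agent.Lib.Helper91.fittingSubgroup_normal
  have hCF : centralizer (F : Set (Y ⧸ U)) ≤ F := Cfsg.Agent.S0044.result
  have hVp : IsPGroup 2 V := by
    rintro ⟨x, hx⟩
    refine ⟨1, Subtype.ext ?_⟩
    simp only [pow_one, Subgroup.coe_one, pow_two]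
    exact hV2 x hx
  set Db := D.map π with hDb
  have hDbel : ∀ x ∈ Db, x * x = 1 := by
    rintro _ ⟨x, hx, rfl⟩
    rw [← map_mul]
    exact (hπ1 _).mpr (hDel x hx)
  have hDbcomm : ∀ x ∈ Db, ∀ y ∈ Db, x * y = y * x := by
    intro x hx y hy
    have h1 := hDbel _ (Db.mul_mem hx hy)
    have h2 := hDbel x hx
    have h3 := hDbel y hy
    calc x * y = (y * y) * (x * y) * (x * x) := by rw [h2, h3]; group
      _ = y * (y * x * (y * x)) * x := by group
      _ = y * x := by rw [hDbel _ (Db.mul_mem hy hx)]; group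
  have hcomapD : Db.comap π = D := by
    rw [hDb, comap_map_eq, hker, sup_eq_left.mpr hUD]
  have hcardD : Nat.card D = Nat.card U * Nat.card Db := by
    conv_lhs => rw [← hcomapD]
    exact Cfsg.Agent.Lib.Lead.card_comap_mk' U Db
  have hDbne : Db ≠ ⊥ := by
    intro h
    apply hDU
    apply le_antisymm _ hUD
    rw [hDb, Subgroup.map_eq_bot_iff, hker] at h
    exact h
  have hDbp : IsPGroup 2 Db := by
    rintro ⟨x, hx⟩
    refine ⟨1, Subtype.ext ?_⟩
    simp only [pow_one, Subgroup.coe_one, pow_two]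
    exact hDbel x hx
  obtain ⟨n, hn⟩ := IsPGroup.iff_card.mp hDbp
  by_contra hcon
  have hn0 : n ≠ 0 := by
    rintro rfl
    apply hDbne
    rw [pow_zero] at hn
    exact Subgroup.card_eq_one.mp hn
  have hn1 : n ≠ 1 := by
    rintro rfl
    apply hcon
    rw [hcardD, hn, pow_one]
  have h4 : 2 ^ 2 ≤ Nat.card Db := by
    rw [hn]
    exact Nat.pow_le_pow_right (by norm_num) (by omega)
  have hEA : IsElementaryAbelian 2 Db :=
    Cfsg.Agent.Lib.Helper10.isEA_iff.mpr ⟨hDbcomm, fun a ha => by rw [pow_two]; exact hDbel a ha⟩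
  have hgen := Cfsg.Agent.S1324.result 2 Db F hEA h4
    (by rw [← Nat.Prime.coprime_iff_not_dvd Nat.prime_two]; exact hFodd.symm) le_normalizer_of_normal
  have hnot : ¬ F ≤ centralizer (Db : Set (Y ⧸ U)) := by
    intro h
    rw [le_centralizer_iff] at h
    apply hDbne
    rw [eq_bot_iff]
    intro x hx
    rw [mem_bot]
    exact eq_one_of_sq_of_mem hFodd (hCF (h hx)) (hDbel x hx)
  obtain ⟨⟨B', hB'le, hB'idx⟩, hB'⟩ : ∃ B : {B : Subgroup (Y ⧸ U) // B ≤ Db ∧ B.relIndex Db ≤ 2},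
      ¬ F ⊓ centralizer ((B : Subgroup (Y ⧸ U)) : Set (Y ⧸ U)) ≤ centralizer (Db : Set (Y ⧸ U)) := by
    by_contra hall
    push Not at hall
    apply hnot
    rw [hgen]
    exact iSup_le hall
  simp only at hB'
  have hB'ne : B' ≠ Db := by
    rintro rfl
    exact hB' inf_le_right
  have hidx : B'.relIndex Db = 2 := by
    have h0 : B'.relIndex Db ≠ 0 := by
      have := Cfsg.Agent.Lib.Helper10.card_mul_relIndex hB'le
      intro h
      rw [h, mul_zero] at this
      exact (Nat.card_pos (α := Db)).ne this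
    have h1 : B'.relIndex Db ≠ 1 := by
      intro h
      exact hB'ne (le_antisymm hB'le (relIndex_eq_one.mp h))
    omega
  have hcardDb : Nat.card Db = Nat.card B' * 2 := by
    rw [← hidx]; exact (Cfsg.Agent.Lib.Helper10.card_mul_relIndex hB'le).symm
  have hB'bot : B' ≠ ⊥ := by
    rintro rfl
    rw [Subgroup.card_bot] at hcardDb
    omega
  set E := B'.comap π with hE
  have hUE : U ≤ E := by
    rw [← hker]; exact MonoidHom.ker_le_comap π B'
  have hED : E ≤ D := by
    rw [← hcomapD]; exact comap_mono hB'le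
  have hEmap : E.map π = B' := map_comap_eq_self_of_surjective hπs B'
  have hEneD : E ≠ D := by
    intro h
    apply hB'ne
    rw [← hEmap, h]
  have hEneU : E ≠ U := by
    intro h
    apply hB'bot
    rw [← hEmap, h, Subgroup.map_eq_bot_iff, hker]
  have hcardE : Nat.card E = Nat.card U * Nat.card B' := Cfsg.Agent.Lib.Lead.card_comap_mk' U B'
  have hlt := lt_of_lt_of_le (hmin E hUE hED hEneD hEneU) hoff
  have hle : V ⊓ centralizer (D : Set Y) ≤ V ⊓ centralizer (E : Set Y) :=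
    inf_le_inf_left V (centralizer_le (by exact_mod_cast hED))
  have heq : V ⊓ centralizer (D : Set Y) = V ⊓ centralizer (E : Set Y) := by
    apply Subgroup.eq_of_le_of_card_ge hle
    obtain ⟨m, hm⟩ := Subgroup.card_dvd_of_le hle
    unfold mm at hlt
    rw [hcardD, hcardDb, hcardE, hm] at hlt
    have hpos : 0 < Nat.card U * Nat.card B' * Nat.card (V ⊓ centralizer (D : Set Y) : Subgroup Y) :=
      Nat.mul_pos (Nat.mul_pos Nat.card_pos Nat.card_pos) Nat.card_pos
    have hm2 : m < 2 := by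
      by_contra h
      push Not at h
      have : Nat.card U * Nat.card B' * Nat.card (V ⊓ centralizer (D : Set Y) : Subgroup Y) * 2 ≤
          Nat.card U * Nat.card B' * Nat.card (V ⊓ centralizer (D : Set Y) : Subgroup Y) * m :=
        Nat.mul_le_mul_left _ h
      nlinarith
    have hm0 : m ≠ 0 := by
      rintro rfl
      rw [mul_zero] at hm
      exact (Nat.card_pos (α := (V ⊓ centralizer (E : Set Y) : Subgroup Y))).ne' hm
    have hm1 : m = 1 := by omega
    rw [hm, hm1, mul_one]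
  obtain ⟨kb, hkb, hkb2⟩ := SetLike.not_le_iff_exists.mp hB'
  rw [mem_centralizer_iff] at hkb2
  push Not at hkb2
  obtain ⟨db, hdb, hne⟩ := hkb2
  obtain ⟨k, rfl⟩ := hπs kb
  obtain ⟨d, hd, rfl⟩ := hdb
  have hdC : π d ∈ centralizer (B' : Set (Y ⧸ U)) := by
    rw [mem_centralizer_iff]
    intro x hx
    exact hDbcomm x (hB'le hx) _ (mem_map_of_mem π hd)
  have habne : ⁅π k, π d⁆ ≠ 1 := by
    rw [Ne, commutatorElement_eq_one_iff_mul_comm]
    exact fun h => hne h.symm
  have habF : ⁅π k, π d⁆ ∈ F := by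
    rw [commutatorElement_def, mul_assoc, mul_assoc, ← mul_assoc (π d)]
    exact F.mul_mem hkb.1 (hFn.conj_mem _ (F.inv_mem hkb.1) _)
  have habC : ⁅π k, π d⁆ ∈ centralizer (B' : Set (Y ⧸ U)) := by
    rw [commutatorElement_def]
    exact mul_mem (mul_mem (mul_mem hkb.2 hdC) (inv_mem hkb.2)) (inv_mem hdC)
  have habo : (orderOf ⁅π k, π d⁆).Coprime 2 := by
    have h1 : orderOf ⁅π k, π d⁆ ∣ Nat.card F := by
      have := orderOf_dvd_natCard (⟨_, habF⟩ : F)
      rwa [Subgroup.orderOf_mk] at this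
    exact Nat.Coprime.coprime_dvd_left h1 hFodd
  obtain ⟨a, ha, hao⟩ := Cfsg.Agent.Lib.Helper96.exists_lift_coprime π hπs Nat.prime_two _ habo
  have hu' : ⁅k, d⁆⁻¹ * a ∈ U := by
    rw [← hπ1, map_mul, map_inv, ha, map_commutatorElement, inv_mul_cancel]
  have hkdN : ⁅k, d⁆ ∈ N := by
    rw [commutatorElement_def]
    exact N.mul_mem (hNn.conj_mem d (hDN hd) k) (N.inv_mem (hDN hd))
  have haN : a ∈ N := by
    have := N.mul_mem hkdN (hUN hu')
    rwa [mul_inv_cancel_left] at this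
  have haU : a ∉ U := by
    intro h
    apply habne
    rw [← ha]
    exact (hπ1 a).mpr h
  apply haU
  apply hN
  refine mem_inf.mpr ⟨haN, ?_⟩
  -- conjugation by elements centralizing `B'` modulo `U` preserves `E`
  have hEconj : ∀ g : Y, π g ∈ centralizer (B' : Set (Y ⧸ U)) → ∀ e ∈ E, g * e * g⁻¹ ∈ E := by
    intro g hg e he
    show π (g * e * g⁻¹) ∈ B'
    have h1 : π e ∈ B' := he
    have h2 := (mem_centralizer_iff.mp hg) _ h1
    rw [map_mul, map_mul, map_inv, ← h2, mul_inv_cancel_right]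
    exact h1
  set X := V ⊓ centralizer (E : Set Y) with hX
  have hXconj : ∀ g : Y, π g ∈ centralizer (B' : Set (Y ⧸ U)) → ∀ x ∈ X, g * x * g⁻¹ ∈ X := by
    intro g hg x hx
    refine mem_inf.mpr ⟨hVn.conj_mem x hx.1 g, ?_⟩
    rw [mem_centralizer_iff]
    intro e he
    have h1 : g⁻¹ * e * g ∈ E := by
      have := hEconj g⁻¹ (by rw [map_inv]; exact inv_mem hg) e he
      simpa using this
    have h2 := (mem_centralizer_iff.mp hx.2) _ h1
    calc e * (g * x * g⁻¹) = g * ((g⁻¹ * e * g) * x) * g⁻¹ := by group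
      _ = g * (x * (g⁻¹ * e * g)) * g⁻¹ := by rw [h2]
      _ = g * x * g⁻¹ * e := by group
  have hdX : ∀ x ∈ X, d * x = x * d := by
    intro x hx
    rw [← heq] at hx
    exact (mem_centralizer_iff.mp hx.2) d hd
  have haX : ∀ x ∈ X, Commute x a := by
    intro x hx
    have h1 : k⁻¹ * x * k ∈ X := by
      have := hXconj k⁻¹ (by rw [map_inv]; exact inv_mem hkb.2) x hx
      simpa using this
    have h2 := hdX _ h1
    have h3 := hdX x hx
    have h4 : ⁅k, d⁆ * x = x * ⁅k, d⁆ := by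
      rw [commutatorElement_def]
      calc k * d * k⁻¹ * d⁻¹ * x = k * d * k⁻¹ * d⁻¹ * (x * d) * d⁻¹ := by group
        _ = k * d * k⁻¹ * d⁻¹ * (d * x) * d⁻¹ := by rw [h3]
        _ = k * (d * (k⁻¹ * x * k)) * k⁻¹ * d⁻¹ := by group
        _ = k * ((k⁻¹ * x * k) * d) * k⁻¹ * d⁻¹ := by rw [h2]
        _ = x * (k * d * k⁻¹ * d⁻¹) := by group
    have h5 : (⁅k, d⁆⁻¹ * a) * x = x * (⁅k, d⁆⁻¹ * a) :=
      ((mem_centralizer_iff.mp (hUV hu')) x hx.1).symm
    show x * a = a * x
    calc x * a = (x * ⁅k, d⁆) * (⁅k, d⁆⁻¹ * a) := by group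
      _ = ⁅k, d⁆ * (x * (⁅k, d⁆⁻¹ * a)) := by rw [← h4]; group
      _ = a * x := by rw [← h5]; group
  have hEp : IsPGroup 2 E := by
    apply IsPGroup.comap_of_ker_isPGroup (hDbp.to_le hB'le) π
    rw [hker]; exact hUp
  set B2 := E ⊓ centralizer ((zpowers a : Subgroup Y) : Set Y) with hB2
  have haπ : ∀ a' ∈ zpowers a, π a' ∈ centralizer (B' : Set (Y ⧸ U)) := by
    intro a' ha'
    obtain ⟨m, rfl⟩ := mem_zpowers_iff.mp ha'
    rw [map_zpow, ha]
    exact zpow_mem habC m
  have hcopE : (Nat.card (zpowers a)).Coprime (Nat.card E) := by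
    rw [Nat.card_zpowers]
    obtain ⟨j, hj⟩ := IsPGroup.iff_card.mp hEp
    rw [hj]
    exact Nat.Coprime.pow_right j hao
  have hnormE : zpowers a ≤ normalizer (E : Set Y) := by
    intro a' ha'
    apply Subgroup.mem_normalizer_fintype
    intro e he
    exact hEconj a' (haπ a' ha') e he
  have hfin := Cfsg.Agent.Lib.Helper47.thompson_AxB (p := 2) (R := V) (B := B2) (a := a) hVp
    (hEp.to_le inf_le_left) hao (by rw [normalizer_eq_top_iff.mpr hVn]; exact mem_top a)
    (by rw [normalizer_eq_top_iff.mpr hVn]; exact le_top)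
    (by
      rw [mem_centralizer_iff]
      intro e he
      exact ((mem_centralizer_iff.mp he.2) a (mem_zpowers a)).symm)
    (by
      intro x hx
      apply haX
      refine mem_inf.mpr ⟨hx.1, ?_⟩
      rw [mem_centralizer_iff]
      intro e he
      obtain ⟨u, hu, hu2⟩ := Cfsg.Agent.Lib.Helper1.exists_fixed_in_coset (zpowers a) E U hnormE hcopE
        (Or.inl inferInstance) hUE le_normalizer_of_normal e he (by
          intro a' ha'
          rw [← hπ1]
          have h1 : π e ∈ B' := he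
          have h2 := (mem_centralizer_iff.mp (haπ a' ha')) _ h1
          simp only [map_mul, map_inv]
          rw [mul_assoc (π e)⁻¹, ← h2]
          group)
      have h1 := (mem_centralizer_iff.mp hx.2) _ hu2
      have h2 := (mem_centralizer_iff.mp (hUV hu)) x hx.1
      calc e * x = e * (x * u) * u⁻¹ := by group
        _ = (e * u * x) * u⁻¹ := by rw [h2]; group
        _ = x * e := by rw [h1]; group)
  rw [mem_centralizer_iff]
  intro v hv
  exact (hfin v hv).eq

/-- **Offenders give `S₄`.** Let `Y` be a finite solvable group, `V` a normal elementary abelian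
2-subgroup centralized by `O_2(Y)`, `N` a normal subgroup containing `O_2(Y)` with
`C_N(V) ≤ O_2(Y)`, and `A ≤ N` a subgroup acting on `V` as an abelian 2-group, not centralizing
`V`, and maximizing `|B| |C_V(B)|` among its subgroups `B`. Then the symmetric group of degree 4
is involved in `Y`. -/
theorem involves_s4_of_offender {Y : Type*} [Group Y] [Finite Y] [Group.IsSolvable Y]
    (V N A : Subgroup Y) [hVn : V.Normal] [hNn : N.Normal] (hV : IsElementaryAbelian 2 V)
    (hUV : pCore 2 Y ≤ centralizer (V : Set Y)) (hUN : pCore 2 Y ≤ N)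
    (hN : N ⊓ centralizer (V : Set Y) ≤ pCore 2 Y) (hAN : A ≤ N)
    (hpow : ∀ a ∈ A, ∃ k : ℕ, a ^ 2 ^ k ∈ centralizer (V : Set Y))
    (hab : ⁅A, A⁆ ≤ centralizer (V : Set Y))
    (hmax : ∀ B : Subgroup Y, B ≤ A → mm V B ≤ mm V A)
    (hne : ¬ A ≤ centralizer (V : Set Y)) :
    Involves (Equiv.Perm (Fin 4)) Y := by
  classical
  have : Fact (Nat.Prime 2) := ⟨Nat.prime_two⟩
  obtain ⟨hVc, hV2'⟩ := Cfsg.Agent.Lib.Helper10.isEA_iff.mp hV
  have hV2 : ∀ x ∈ V, x * x = 1 := fun x hx => by rw [← pow_two]; exact hV2' x hx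
  have hVp : IsPGroup 2 V := Cfsg.Agent.Lib.Helper10.IsEA.isPGroup hV
  have hnV : ∀ H : Subgroup Y, H ≤ normalizer (V : Set Y) := fun H => by
    rw [normalizer_eq_top_iff.mpr hVn]; exact le_top
  obtain ⟨B, hBA, hIB, hmmB, hquad, hBne⟩ := quad_repl hVc hVp (hnV A) hab hpow hmax hne
  set U := pCore 2 Y with hUdef
  have hUn : U.Normal := inferInstance
  have hUp : IsPGroup 2 U := Cfsg.Agent.Lib.Lead.pCore_isPGroup 2 Y
  have hBN : B ≤ N := hBA.trans hAN
  -- squares of elements of `B` lie in `U`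
  have hBsq : ∀ β ∈ B, β * β ∈ U := by
    intro β hβ
    apply hN
    refine mem_inf.mpr ⟨N.mul_mem (hBN hβ) (hBN hβ), ?_⟩
    rw [mem_centralizer_iff]
    intro v hv
    have hc1 : ⁅v, β⁆ ∈ ⁅V, B⁆ := commutator_mem_commutator hv hβ
    have hc2 : β * ⁅v, β⁆ = ⁅v, β⁆ * β := (mem_centralizer_iff.mp (hquad hc1)) β hβ
    have hc3 : ⁅v, β⁆ ∈ V := by
      rw [commutatorElement_def, mul_assoc, mul_assoc, ← mul_assoc β]
      exact V.mul_mem hv (hVn.conj_mem _ (V.inv_mem hv) β)
    have hc4 : ⁅v, β⁆ * ⁅v, β⁆ = 1 := hV2 _ hc3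
    have hc5 : v * β = ⁅v, β⁆ * β * v := by rw [commutatorElement_def]; group
    calc v * (β * β) = (v * β) * β := by group
      _ = ⁅v, β⁆ * β * (v * β) := by rw [hc5]; group
      _ = ⁅v, β⁆ * (β * ⁅v, β⁆) * β * v := by rw [hc5]; group
      _ = (⁅v, β⁆ * ⁅v, β⁆) * β * β * v := by rw [hc2]; group
      _ = β * β * v := by rw [hc4, one_mul]
  set D0 := B ⊔ U with hD0
  have hD0sq : ∀ x ∈ D0, x * x ∈ U := by
    intro x hx
    obtain ⟨β, hβ, u, hu, rfl⟩ := mem_sup_of_normal_right.mp hx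
    have h1 : β⁻¹ * u * β ∈ U := by simpa using hUn.conj_mem u hu β⁻¹
    have := U.mul_mem (U.mul_mem (hBsq β hβ) h1) hu
    convert this using 1
    group
  have hD0N : D0 ≤ N := sup_le hBN hUN
  have hVCU : V ≤ centralizer (U : Set Y) := le_centralizer_iff.mp hUV
  have hoff0 : Nat.card V * Nat.card U ≤ mm V D0 := by
    have hI : B ⊓ U = A ⊓ centralizer (V : Set Y) := by
      apply le_antisymm
      · exact inf_le_inf hBA hUV
      · exact le_inf hIB ((inf_le_inf_right _ hAN).trans hN)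
    have hc : V ⊓ centralizer (D0 : Set Y) = V ⊓ centralizer (B : Set Y) := by
      rw [hD0, Cfsg.Agent.Lib.Helper10.centralizer_sup, ← inf_assoc, inf_right_comm,
        inf_eq_left.mpr hVCU]
    have h1 : mm V (A ⊓ centralizer (V : Set Y)) ≤ mm V B := hmmB ▸ hmax _ inf_le_left
    have h3 : V ⊓ centralizer ((A ⊓ centralizer (V : Set Y) : Subgroup Y) : Set Y) = V := by
      rw [inf_eq_left, le_centralizer_iff]
      exact inf_le_right
    have h2 := Cfsg.Agent.Lib.Helper10.card_sup_mul_card_inf B U le_normalizer_of_normal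
    unfold mm at h1 ⊢
    rw [h3] at h1
    rw [hc]
    rw [hI] at h2
    have hpos : 0 < Nat.card (A ⊓ centralizer (V : Set Y) : Subgroup Y) := Nat.card_pos
    apply Nat.le_of_mul_le_mul_right _ hpos
    calc Nat.card V * Nat.card U * Nat.card (A ⊓ centralizer (V : Set Y) : Subgroup Y)
        = (Nat.card (A ⊓ centralizer (V : Set Y) : Subgroup Y) * Nat.card V) * Nat.card U := by ring
      _ ≤ (Nat.card B * Nat.card (V ⊓ centralizer (B : Set Y) : Subgroup Y)) * Nat.card U :=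
          Nat.mul_le_mul_right _ h1
      _ = (Nat.card B * Nat.card U) * Nat.card (V ⊓ centralizer (B : Set Y) : Subgroup Y) := by ring
      _ = Nat.card D0 * Nat.card (V ⊓ centralizer (B : Set Y) : Subgroup Y) *
            Nat.card (A ⊓ centralizer (V : Set Y) : Subgroup Y) := by rw [← h2]; ring
  have hD0U : D0 ≠ U := by
    intro h
    apply hBne
    exact (le_sup_left.trans h.le).trans hUV
  let S : Set (Subgroup Y) := {D | U ≤ D ∧ D ≤ D0 ∧ D ≠ U ∧ Nat.card V * Nat.card U ≤ mm V D}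
  obtain ⟨D, hDmin⟩ := (Set.toFinite S).exists_minimal ⟨D0, le_sup_right, le_rfl, hD0U, hoff0⟩
  obtain ⟨hUD, hDD0, hDU, hoff⟩ := hDmin.prop
  have hDN : D ≤ N := hDD0.trans hD0N
  have hcard := card_min_offender V N D hV2 hUV hUN hN hUD hDN hDU
    (fun x hx => hD0sq x (hDD0 hx)) hoff (by
      intro E hUE hED hEneD hEneU
      by_contra h
      push Not at h
      exact hEneD (le_antisymm hED (hDmin.le_of_le ⟨hUE, hED.trans hDD0, hEneU, h⟩ hED)))
  obtain ⟨b, hbD, hbU⟩ := SetLike.exists_of_lt (lt_of_le_of_ne hUD hDU.symm)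
  have hbN : b ∈ N := hDN hbD
  have hb2 : b * b ∈ U := hD0sq b (hDD0 hbD)
  have hbV : b ∉ centralizer (V : Set Y) := fun h => hbU (hN (mem_inf.mpr ⟨hbN, h⟩))
  -- the fixed points of `b` on `V` have index 2
  set Xb : Subgroup Y := V ⊓ centralizer {b} with hXb
  have hXbV : Xb ≤ V := inf_le_left
  have hXbne : Xb ≠ V := by
    intro h
    apply hbV
    rw [mem_centralizer_iff]
    intro v hv
    rw [← h] at hv
    exact mem_centralizer_singleton_iff.mp hv.2
  have hcXb : Nat.card V ≤ Nat.card Xb * 2 := by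
    have h1 : V ⊓ centralizer (D : Set Y) ≤ Xb :=
      inf_le_inf_left V (centralizer_le (by simpa using hbD))
    have h2 : Nat.card (V ⊓ centralizer (D : Set Y) : Subgroup Y) ≤ Nat.card Xb :=
      Subgroup.card_le_of_le h1
    unfold mm at hoff
    rw [hcard] at hoff
    have hpos : 0 < Nat.card U := Nat.card_pos
    apply Nat.le_of_mul_le_mul_right _ hpos
    calc Nat.card V * Nat.card U ≤ Nat.card U * 2 * Nat.card (V ⊓ centralizer (D : Set Y) : Subgroup Y) := hoff
      _ ≤ Nat.card U * 2 * Nat.card Xb := Nat.mul_le_mul_left _ h2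
      _ = Nat.card Xb * 2 * Nat.card U := by ring
  have hidx : (Xb.subgroupOf V).index = 2 := by
    have h1 := Cfsg.Agent.Lib.Helper10.card_mul_relIndex hXbV
    have h0 : Xb.relIndex V ≠ 1 := fun h => hXbne (le_antisymm hXbV (relIndex_eq_one.mp h))
    have h00 : Xb.relIndex V ≠ 0 := by
      intro h
      rw [h, mul_zero] at h1
      exact (Nat.card_pos (α := V)).ne h1
    have h2 : Xb.relIndex V ≤ 2 := by
      rw [← h1] at hcXb
      exact Nat.le_of_mul_le_mul_left hcXb Nat.card_pos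
    show Xb.relIndex V = 2
    omega
  obtain ⟨v0, hv0V, hv0X⟩ := SetLike.exists_of_lt (lt_of_le_of_ne hXbV hXbne)
  have hmemXb : ∀ v ∈ V, v ∈ Xb ↔ b * v * b⁻¹ = v := by
    intro v hv
    rw [hXb, mem_inf, mem_centralizer_singleton_iff, mul_inv_eq_iff_eq_mul]
    exact ⟨fun h => h.2.symm, fun h => ⟨hv, h.symm⟩⟩
  have htr : ∀ v ∈ V, b * v * b⁻¹ = v ∨ b * v * b⁻¹ = v * (v0⁻¹ * (b * v0 * b⁻¹)) := by
    intro v hv
    by_cases hvX : v ∈ Xb
    · left; exact (hmemXb v hv).mp hvX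
    · right
      have h1 : (⟨v0, hv0V⟩ : V)⁻¹ * ⟨v, hv⟩ ∈ Xb.subgroupOf V := by
        rw [Subgroup.mul_mem_iff_of_index_two hidx, inv_mem_iff]
        simp only [mem_subgroupOf]
        exact ⟨fun h => absurd h hv0X, fun h => absurd h hvX⟩
      have h2 : v0⁻¹ * v ∈ Xb := h1
      have h3 := (hmemXb _ (V.mul_mem (V.inv_mem hv0V) hv)).mp h2
      have h4 : b * v * b⁻¹ = (b * v0 * b⁻¹) * (v0⁻¹ * v) := by
        rw [← h3]; group
      rw [h4]
      have h5 : b * v0 * b⁻¹ ∈ V := hVn.conj_mem v0 hv0V b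
      rw [hVc _ h5 _ (V.mul_mem (V.inv_mem hv0V) hv), hVc _ (V.inv_mem hv0V) _ hv]
      group
  have hβV : v0⁻¹ * (b * v0 * b⁻¹) ∈ V := V.mul_mem (V.inv_mem hv0V) (hVn.conj_mem v0 hv0V b)
  -- a conjugate of `b`
  let π : Y →* Y ⧸ U := QuotientGroup.mk' U
  have hπs : Function.Surjective π := QuotientGroup.mk'_surjective U
  have hπ1 : ∀ g : Y, π g = 1 ↔ g ∈ U := fun g => QuotientGroup.eq_one_iff g
  set F := fittingSubgroup (Y ⧸ U) with hF
  have hcore : pCore 2 (Y ⧸ U) = ⊥ := Cfsg.Agent.Lib.Lead.pCore_quotient_pCore 2 Y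
  have hFodd : (Nat.card F).Coprime 2 :=
    Cfsg.Agent.Lib.Helper96.card_fittingSubgroup_coprime Nat.prime_two _ hcore
  have hFn : F.Normal := Cfsg.Agent.Lib.Helper91.fittingSubgroup_normal
  have hCF : centralizer (F : Set (Y ⧸ U)) ≤ F := Cfsg.Agent.S0044.result
  have hbb : π b * π b = 1 := by rw [← map_mul]; exact (hπ1 _).mpr hb2
  have hbinv : (π b)⁻¹ = π b := inv_eq_of_mul_eq_one_left hbb
  have hbCF : π b ∉ centralizer (F : Set (Y ⧸ U)) := by
    intro h
    apply hbU
    rw [← hπ1]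
    exact eq_one_of_sq_of_mem hFodd (hCF h) hbb
  rw [mem_centralizer_iff] at hbCF
  push Not at hbCF
  obtain ⟨kb, hkbF, hkb⟩ := hbCF
  obtain ⟨k, rfl⟩ := hπs kb
  have hgF : π (k * b * k⁻¹ * b) ∈ F := by
    have h1 : π (k * b * k⁻¹ * b) = π k * (π b * (π k)⁻¹ * (π b)⁻¹) := by
      simp only [map_mul, map_inv, hbinv]; group
    rw [h1]
    exact F.mul_mem hkbF (hFn.conj_mem _ (F.inv_mem hkbF) _)
  have hgne : π (k * b * k⁻¹ * b) ≠ 1 := by
    intro h
    apply hkb
    simp only [map_mul, map_inv] at h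
    have h2 : π k * π b * (π k)⁻¹ = π b := by
      have h3 := eq_inv_of_mul_eq_one_left h
      rwa [hbinv] at h3
    exact mul_inv_eq_iff_eq_mul.mp h2
  have hgo : (orderOf (π (k * b * k⁻¹ * b))).Coprime 2 := by
    have h1 : orderOf (π (k * b * k⁻¹ * b)) ∣ Nat.card F := by
      have := orderOf_dvd_natCard (⟨_, hgF⟩ : F)
      rwa [Subgroup.orderOf_mk] at this
    exact Nat.Coprime.coprime_dvd_left h1 hFodd
  obtain ⟨yh, hyh, hyo⟩ := Cfsg.Agent.Lib.Helper96.exists_lift_coprime π hπs Nat.prime_two _ hgo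
  have hyg : yh⁻¹ * (k * b * k⁻¹ * b) ∈ U := by
    rw [← hπ1, map_mul, map_inv, hyh, inv_mul_cancel]
  have hgN : k * b * k⁻¹ * b ∈ N := N.mul_mem (hNn.conj_mem b hbN k) hbN
  have hyN : yh ∈ N := by
    have := N.mul_mem hgN (N.inv_mem (hUN hyg))
    convert this using 1
    group
  have hyU : yh ∉ U := by
    intro h
    apply hgne
    rw [← hyh]
    exact (hπ1 yh).mpr h
  exact Cfsg.Agent.Lib.Helper61.S4Transv.involves_s4_of_transvection U V hUp hVc hV2 hUV b k _ yh hb2
    hβV htr hyo hyg (fun h => hyU (hN (mem_inf.mpr ⟨hyN, h⟩)))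
    (fun h => hN (mem_inf.mpr ⟨N.pow_mem hyN 3, h⟩))

end Cfsg.Agent.Lib.Helper61.S4Offender
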