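import Mathlib

/-! General lemmas on the number of Sylow subgroups (helper61). -/

set_option autoImplicit false

namespace Cfsg.Agent.Lib.Helper61

open Subgroup MulAction

variable {G : Type*} [Group G] [Finite G] {p : ℕ} [Fact p.Prime]

omit [Finite G] [Fact p.Prime] in
/-- A normal subgroup of index prime to `p` contains every Sylow `p`-subgroup. -/
theorem sylow_le_of_normal_of_coprime_index (N : Subgroup G) [N.Normal]
    (hN : N.index.Coprime p) (P : Sylow p G) : (P : Subgroup G) ≤ N := by
  intro x hx
  rw [← QuotientGroup.eq_one_iff]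
  obtain ⟨k, hk⟩ := (P.2 ⟨x, hx⟩)
  have hk' : x ^ p ^ k = 1 := by simpa using congrArg Subtype.val hk
  have h1 : orderOf (x : G ⧸ N) ∣ p ^ k := by
    apply orderOf_dvd_of_pow_eq_one
    rw [← QuotientGroup.mk_pow, hk']; rfl
  have h2 : orderOf (x : G ⧸ N) ∣ N.index := by
    rw [Subgroup.index_eq_card]; exact orderOf_dvd_natCard _
  have h3 : orderOf (x : G ⧸ N) = 1 :=
    Nat.eq_one_of_dvd_coprimes (hN.pow_right k) h2 h1
  exact orderOf_eq_one_iff.mp h3

/-- A normal subgroup of index prime to `p` has as many Sylow `p`-subgroups as the group. -/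
theorem card_sylow_of_normal_of_coprime_index (N : Subgroup G) [N.Normal]
    (hN : N.index.Coprime p) : Nat.card (Sylow p N) = Nat.card (Sylow p G) := by
  symm
  refine Nat.card_congr (Equiv.ofBijective
    (fun P : Sylow p G => P.subtype (sylow_le_of_normal_of_coprime_index N hN P)) ⟨?_, ?_⟩)
  · intro P Q h
    exact Sylow.subtype_injective h
  · intro R
    obtain ⟨P, hP⟩ := Sylow.exists_comap_subtype_eq R
    refine ⟨P, ?_⟩
    apply Sylow.ext
    rw [Sylow.coe_subtype]
    exact hP

/-- If `K` is normal and normalizes every Sylow `p`-subgroup, `G ⧸ K` has as many Sylow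
`p`-subgroups as `G`. -/
theorem card_sylow_quotient (K : Subgroup G) [K.Normal]
    (hK : ∀ P : Sylow p G, K ≤ normalizer (P : Set G)) :
    Nat.card (Sylow p (G ⧸ K)) = Nat.card (Sylow p G) := by
  symm
  refine Nat.card_congr (Equiv.ofBijective
    (fun P : Sylow p G => P.mapSurjective (QuotientGroup.mk'_surjective K)) ⟨?_, ?_⟩)
  · intro P Q h
    have h1 : (P : Subgroup G).map (QuotientGroup.mk' K) = (Q : Subgroup G).map (QuotientGroup.mk' K) := by
      have := congrArg (fun R : Sylow p (G ⧸ K) => (R : Subgroup (G ⧸ K))) h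
      simpa using this
    have h2 : (Q : Subgroup G) ≤ (P : Subgroup G) ⊔ K := by
      have := congrArg (Subgroup.comap (QuotientGroup.mk' K)) h1
      rw [Subgroup.comap_map_eq, Subgroup.comap_map_eq, QuotientGroup.ker_mk'] at this
      rw [this]; exact le_sup_left
    have h3 : (Q : Subgroup G) ≤ normalizer (P : Set G) :=
      h2.trans (sup_le le_normalizer (hK P))
    have h4 : (Q : Subgroup G) ≤ P := by
      have := (Q.2.sylow_mem_fixedPoints_iff (Q := P)).mp
        ((Subgroup.sylow_mem_fixedPoints_iff _).mpr h3)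
      exact this
    exact Sylow.ext (Q.3 P.2 h4)
  · exact Sylow.mapSurjective_surjective (QuotientGroup.mk'_surjective K) p

/-- Burnside transfer for a Sylow subgroup of prime order `r` with `(|G|, r - 1) = 1`. -/
theorem exists_normal_index_prime (R : Sylow p G) (hR : Nat.card R = p)
    (hc : (Nat.card G).Coprime (p - 1)) : ∃ K : Subgroup G, K.Normal ∧ K.index = p := by
  have hcyc : IsCyclic R := isCyclic_of_prime_card hR
  have hNC : normalizer (R : Set G) ≤ centralizer (R : Set G) := by
    have key := card_dvd_of_injective _ (QuotientGroup.kerLift_injective (R : Subgroup G).normalizerMonoidHom)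
    rw [normalizerMonoidHom_ker, ← index, ← relIndex] at key
    refine relIndex_eq_one.mp (Nat.eq_one_of_dvd_coprimes ?_ dvd_rfl key)
    rw [hcyc.card_mulAut, hR, Nat.totient_prime Fact.out]
    apply Nat.Coprime.coprime_dvd_left <| relIndex_dvd_card ..
    apply Nat.Coprime.coprime_dvd_left <| card_subgroup_dvd_card _
    exact hc
  refine ⟨(MonoidHom.transferSylow R hNC).ker, inferInstance, ?_⟩
  rw [(MonoidHom.ker_transferSylow_isComplement' R hNC).symm.index_eq_card, hR]

end Cfsg.Agent.Lib.Helper61
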